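import Mathlib
import Groth.Agent.S12236
import Groth.Agent.IndEtLib.Basic
import Groth.Agent.Popescu.LocalModel
import Groth.Agent.Hensel.HenselizationNoeth
import Groth.Agent.Hensel.Local
import Groth.Agent.Hensel.LocalPiece

/-!
Henselizations of essentially finite type local algebras: quotients, étale neighbourhoods, and
transfer along finite local homomorphisms.
-/
set_option autoImplicit false
set_option linter.style.haveILetI false
set_option linter.unusedSectionVars false
set_option backward.isDefEq.respectTransparency false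
universe u

namespace Groth.Agent.HensTransfer
open IsLocalRing

/-- `H` is a henselization of a local ring of a finite type `A`-algebra. -/
def IsEFTHens (A : Type u) [CommRing A] (H : Type u) [CommRing H] [IsLocalRing H] [Algebra A H] : Prop :=
  ∃ (B : Type u) (_ : CommRing B) (_ : Algebra A B) (_ : Algebra.FiniteType A B) (p : Ideal B) (_ : p.IsPrime)
    (_ : Algebra (Localization.AtPrime p) H) (_ : IsScalarTower A (Localization.AtPrime p) H)
    (_ : IsLocalHom (algebraMap (Localization.AtPrime p) H)), _root_.Hensel.IsHenselization (Localization.AtPrime p) H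

theorem isEFTHens_of_essFiniteType {A H : Type u} [CommRing A] [CommRing H] [IsLocalRing H] [Algebra A H]
    (C : Type u) [CommRing C] [IsLocalRing C] [Algebra A C] [Algebra.EssFiniteType A C] [Algebra C H]
    [IsScalarTower A C H] [IsLocalHom (algebraMap C H)] (hH : _root_.Hensel.IsHenselization C H) :
    IsEFTHens A H := by
  let B := Algebra.EssFiniteType.subalgebra A C
  let p : Ideal B := (maximalIdeal C).comap (algebraMap B C)
  haveI : p.IsPrime := Ideal.IsPrime.comap _
  haveI : IsLocalization p.primeCompl C := by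
    have h : p.primeCompl = Algebra.EssFiniteType.submonoid A C := by
      ext b
      show ¬ b ∈ p ↔ IsUnit (algebraMap B C b)
      rw [Ideal.mem_comap, mem_maximalIdeal, mem_nonunits_iff, not_not]
    rw [h]
    infer_instance
  let e : Localization.AtPrime p ≃ₐ[B] C := IsLocalization.algEquiv p.primeCompl _ C
  letI : Algebra (Localization.AtPrime p) H := ((algebraMap C H).comp e.toRingEquiv.toRingHom).toAlgebra
  haveI : IsScalarTower A (Localization.AtPrime p) H := IsScalarTower.of_algebraMap_eq fun a => by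
    show _ = algebraMap C H (e (algebraMap A (Localization.AtPrime p) a))
    rw [IsScalarTower.algebraMap_apply A B (Localization.AtPrime p), e.commutes,
      ← IsScalarTower.algebraMap_apply A B C, ← IsScalarTower.algebraMap_apply]
  haveI : IsLocalHom (algebraMap (Localization.AtPrime p) H) := ⟨fun x hx => by
    have h1 : IsUnit (e x) := IsUnit.of_map (algebraMap C H) _ hx
    simpa using h1.map e.symm⟩
  refine ⟨B, inferInstance, inferInstance, inferInstance, p, inferInstance, inferInstance, inferInstance,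
    inferInstance, ⟨hH.henselian, fun T _ _ f hf => ?_⟩⟩
  haveI := hf
  haveI : IsLocalHom (f.comp e.symm.toRingEquiv.toRingHom) := ⟨fun x hx => by
    have h1 : IsUnit (e.symm x) := IsUnit.of_map f _ hx
    simpa using h1.map e⟩
  obtain ⟨g, hg, hu⟩ := hH.universal T (f.comp e.symm.toRingEquiv.toRingHom) inferInstance
  refine ⟨g, RingHom.ext fun x => ?_, fun g' hg' => hu g' (RingHom.ext fun c => ?_)⟩
  · show g (algebraMap C H (e x)) = f x
    rw [← RingHom.comp_apply, hg]
    show f (e.symm (e x)) = f x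
    rw [AlgEquiv.symm_apply_apply]
  · show g' (algebraMap C H c) = f (e.symm c)
    rw [← RingHom.congr_fun hg' (e.symm c)]
    show _ = g' (algebraMap C H (e (e.symm c)))
    rw [AlgEquiv.apply_symm_apply]

/-- Quotients of henselizations. -/
theorem isHenselization_quotient {M H Q H₁ : Type u} [CommRing M] [IsLocalRing M] [CommRing H] [IsLocalRing H]
    [Algebra M H] [IsLocalHom (algebraMap M H)] (hH : _root_.Hensel.IsHenselization M H)
    [CommRing Q] [IsLocalRing Q] [CommRing H₁] [HenselianLocalRing H₁] [Algebra Q H₁] [IsLocalHom (algebraMap Q H₁)]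
    (π : M →+* Q) (hπ : Function.Surjective π) (ψ : H →+* H₁) (hψ : Function.Surjective ψ)
    (hcomm : ∀ x, ψ (algebraMap M H x) = algebraMap Q H₁ (π x))
    (hker : RingHom.ker ψ ≤ (RingHom.ker π).map (algebraMap M H)) :
    _root_.Hensel.IsHenselization Q H₁ := by
  refine ⟨inferInstance, fun T _ _ f hf => ?_⟩
  haveI := hf
  haveI : IsLocalHom π := .of_surjective _ hπ
  obtain ⟨g, hg, hu⟩ := hH.universal T (f.comp π) inferInstance
  have hle : RingHom.ker ψ ≤ RingHom.ker g := hker.trans (Ideal.map_le_iff_le_comap.2 fun x hx => by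
    rw [Ideal.mem_comap, RingHom.mem_ker, ← RingHom.comp_apply, hg, RingHom.comp_apply,
      RingHom.mem_ker.1 hx, map_zero])
  let g₁ : H₁ →+* T := RingHom.liftOfSurjective ψ hψ ⟨g, hle⟩
  have hg₁ : ∀ h, g₁ (ψ h) = g h := fun h => RingHom.liftOfRightInverse_comp_apply ψ _ _ ⟨g, hle⟩ h
  refine ⟨g₁, RingHom.ext fun x => ?_, fun g' hg' => RingHom.ext fun y => ?_⟩
  · obtain ⟨x, rfl⟩ := hπ x
    rw [RingHom.comp_apply, ← hcomm, hg₁, ← RingHom.comp_apply, hg, RingHom.comp_apply]
  · obtain ⟨y, rfl⟩ := hψ y
    rw [hg₁, ← hu (g'.comp ψ) (RingHom.ext fun x => by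
      show g' (ψ (algebraMap M H x)) = f (π x)
      rw [hcomm, ← RingHom.comp_apply, hg'])]
    rfl

/-- A henselization of `C` is a henselization of the local ring of any étale neighbourhood mapping to it. -/
theorem isHenselization_nbhd {C H E : Type u} [CommRing C] [IsLocalRing C] [CommRing H] [IsLocalRing H]
    [Algebra C H] [IsLocalHom (algebraMap C H)] (hH : _root_.Hensel.IsHenselization C H)
    [CommRing E] [Algebra C E] [Algebra.Etale C E] (φ : E →ₐ[C] H) (q : Ideal E) [q.IsPrime]
    (hq : q = (maximalIdeal H).comap φ.toRingHom) [Algebra (Localization.AtPrime q) H]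
    [IsLocalHom (algebraMap (Localization.AtPrime q) H)]
    (hφ : ∀ x, algebraMap (Localization.AtPrime q) H (algebraMap E _ x) = φ x) :
    _root_.Hensel.IsHenselization (Localization.AtPrime q) H := by
  set M := Localization.AtPrime q
  haveI : HenselianLocalRing H := hH.henselian
  obtain ⟨hlocM, hMh⟩ := Groth.Agent.Hensel.exists_henselization M
  set Mh := Groth.Agent.Hensel.Env M (ResidueField M)
  haveI := hlocM
  haveI : HenselianLocalRing Mh := hMh.henselian
  haveI : IsLocalization.AtPrime C (maximalIdeal C) := IsLocalization.self fun x hx => notMem_maximalIdeal.1 hx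
  let ι : C →+* M := (algebraMap E M).comp (algebraMap C E)
  have hιH : ∀ c, algebraMap M H (ι c) = algebraMap C H c := fun c => by
    show algebraMap M H (algebraMap E M (algebraMap C E c)) = _
    rw [hφ, AlgHom.commutes]
  haveI : IsLocalHom ι := ⟨fun c hc => by
    have h1 := hc.map (algebraMap M H)
    rw [hιH] at h1
    exact IsUnit.of_map (algebraMap C H) c h1⟩
  have hp : q.comap (algebraMap C E) = maximalIdeal C := by
    rw [hq, Ideal.comap_comap, show φ.toRingHom.comp (algebraMap C E) = algebraMap C H from RingHom.ext φ.commutes]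
    exact ((local_hom_TFAE (algebraMap C H)).out 0 4).1 ‹_›
  have hres : ∀ z, ∃ l, z - ι l ∈ maximalIdeal M := fun z => by
    obtain ⟨c, hc⟩ := Groth.Agent.Hensel.henselization_exists_sub_mem C H (algebraMap M H z)
    refine ⟨c, fun hu => hc ?_⟩
    have h1 := hu.map (algebraMap M H)
    rwa [map_sub, hιH] at h1
  letI : Algebra C Mh := ((algebraMap M Mh).comp ι).toAlgebra
  haveI : IsLocalHom (algebraMap C Mh) := by
    show IsLocalHom ((algebraMap M Mh).comp ι)
    infer_instance
  have hC : _root_.Hensel.IsHenselization C Mh :=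
    Groth.Agent.Popescu.isHenselization_of_etale (maximalIdeal C) q hp ι (fun c => rfl) hres Mh (fun l => rfl)
  -- the comparison maps
  obtain ⟨g, hg, hgu⟩ := hMh.universal H (algebraMap M H) inferInstance
  obtain ⟨h, hh, -⟩ := hH.universal Mh (algebraMap C Mh) inferInstance
  have hgh : g.comp h = RingHom.id H := (hH.universal H (algebraMap C H) inferInstance).unique (by
    rw [RingHom.comp_assoc, hh]
    exact RingHom.ext fun c => (RingHom.congr_fun hg (ι c)).trans (hιH c)) (RingHom.id_comp _)
  have hhg : h.comp g = RingHom.id Mh := (hC.universal Mh (algebraMap C Mh) inferInstance).unique (by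
    rw [RingHom.comp_assoc, show g.comp (algebraMap C Mh) = algebraMap C H from
      RingHom.ext fun c => (RingHom.congr_fun hg (ι c)).trans (hιH c), hh]) (RingHom.id_comp _)
  let e : Mh ≃ₐ[M] H := AlgEquiv.ofRingEquiv (f := RingEquiv.ofRingHom g h hgh hhg) fun x => RingHom.congr_fun hg x
  exact Groth.Agent.Hensel.isHenselization_of_equiv e hMh inferInstance

/-- A map out of a localization at the contraction of the maximal ideal is local. -/
theorem isLocalHom_of_comap {E T : Type u} [CommRing E] [CommRing T] [IsLocalRing T] (θ : E →+* T) (q : Ideal E)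
    [q.IsPrime] (hq : q = (maximalIdeal T).comap θ) (f : Localization.AtPrime q →+* T)
    (hf : ∀ x, f (algebraMap E _ x) = θ x) : IsLocalHom f := by
  refine ⟨fun x hx => ?_⟩
  obtain ⟨s, t, rfl⟩ := IsLocalization.exists_mk'_eq q.primeCompl x
  refine (IsLocalization.AtPrime.isUnit_mk'_iff _ q s t).2 ?_
  have ht : IsUnit (θ t) := notMem_maximalIdeal.1 fun h => t.2 ((SetLike.ext_iff.1 hq (t : E)).2 h)
  have h1 : f (IsLocalization.mk' _ s t) * θ t = θ s := by
    rw [← hf, ← map_mul, IsLocalization.mk'_spec, hf]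
  intro h
  rw [SetLike.mem_coe, hq, Ideal.mem_comap] at h
  exact h (h1 ▸ hx.mul ht)

/-- Henselizations exist. -/
theorem exists_hens (C : Type u) [CommRing C] [IsLocalRing C] :
    ∃ (Ch : Type u) (_ : CommRing Ch) (_ : IsLocalRing Ch) (_ : Algebra C Ch) (_ : IsLocalHom (algebraMap C Ch)),
      _root_.Hensel.IsHenselization C Ch := by
  obtain ⟨h, hh⟩ := Groth.Agent.Hensel.exists_henselization C
  exact ⟨_, inferInstance, inferInstance, inferInstance, h, hh⟩

/-- Maps out of a henselization extending a local map are local. -/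
theorem isLocalHom_of_henselization {C Ch T : Type u} [CommRing C] [IsLocalRing C] [CommRing Ch] [IsLocalRing Ch]
    [Algebra C Ch] [IsLocalHom (algebraMap C Ch)] (h : _root_.Hensel.IsHenselization C Ch)
    [CommRing T] [IsLocalRing T] (g : Ch →+* T) (f : C →+* T) [IsLocalHom f]
    (hg : g.comp (algebraMap C Ch) = f) : IsLocalHom g := by
  refine ((local_hom_TFAE g).out 2 0).1 ?_
  rw [← Groth.Agent.Hensel.henselization_map_maximalIdeal C Ch, Ideal.map_map, hg]
  exact ((local_hom_TFAE f).out 0 2).1 ‹_›

/-- A finite local algebra over a henselization of an essentially finite type local ring is one too. -/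
theorem transfer {A : Type u} [CommRing A] [IsNoetherianRing A] {C H H₁ : Type u} [CommRing C] [IsLocalRing C]
    [Algebra A C] [Algebra.EssFiniteType A C] [CommRing H] [IsLocalRing H] [Algebra C H] [IsLocalHom (algebraMap C H)]
    (hH : _root_.Hensel.IsHenselization C H) [CommRing H₁] [HenselianLocalRing H₁] [Algebra A H₁] [Algebra H H₁]
    [Algebra C H₁] [IsScalarTower A C H₁] [IsScalarTower C H H₁] [IsLocalHom (algebraMap H H₁)] [Module.Finite H H₁] :
    IsEFTHens A H₁ := by
  classical
  obtain ⟨n, b, hb⟩ := Module.Finite.exists_fin (R := H) (M := H₁)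
  let S₁ := MvPolynomial (Fin n) C
  let θ : S₁ →ₐ[C] H₁ := MvPolynomial.aeval b
  let q₁ : Ideal S₁ := (maximalIdeal H₁).comap θ.toRingHom
  haveI : q₁.IsPrime := Ideal.IsPrime.comap _
  let C₁ := Localization.AtPrime q₁
  have hunit : ∀ y : q₁.primeCompl, IsUnit (θ y) := fun y => notMem_maximalIdeal.1 y.2
  let θ₁ : C₁ →ₐ[C] H₁ := IsLocalization.liftAlgHom (M := q₁.primeCompl) (f := θ) hunit
  have hθ₁ : ∀ x, θ₁ (algebraMap S₁ C₁ x) = θ x := fun x => IsLocalization.lift_eq _ x
  haveI : IsLocalHom θ₁.toRingHom := isLocalHom_of_comap θ.toRingHom q₁ rfl θ₁.toRingHom hθ₁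
  haveI : IsNoetherianRing C := Algebra.EssFiniteType.isNoetherianRing A C
  haveI : IsNoetherianRing C₁ := IsLocalization.isNoetherianRing q₁.primeCompl _ inferInstance
  haveI : Algebra.EssFiniteType A C₁ := by
    haveI : Algebra.EssFiniteType C S₁ := inferInstance
    haveI : Algebra.EssFiniteType S₁ C₁ := Algebra.EssFiniteType.of_isLocalization _ q₁.primeCompl
    haveI : Algebra.EssFiniteType A S₁ := Algebra.EssFiniteType.comp A C S₁
    exact Algebra.EssFiniteType.comp A S₁ C₁
  -- the henselization of `C₁` maps onto `H₁`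
  obtain ⟨C₁h, _, _, _, hloc₁, hC₁h⟩ := exists_hens C₁
  haveI := hloc₁
  haveI : HenselianLocalRing C₁h := hC₁h.henselian
  obtain ⟨ψ, hψ, -⟩ := hC₁h.universal H₁ θ₁.toRingHom inferInstance
  have hψθ : ∀ x, ψ (algebraMap C₁ C₁h x) = θ₁ x := fun x => RingHom.congr_fun hψ x
  let j : C →+* C₁h := (algebraMap C₁ C₁h).comp (algebraMap C C₁)
  have hCH₁ : IsLocalHom (algebraMap C H₁) := by
    rw [IsScalarTower.algebraMap_eq C H H₁]; infer_instance
  haveI := hCH₁
  haveI : IsLocalHom j := ⟨fun c hc => by
    have h1 := hc.map ψ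
    rw [show ψ (j c) = algebraMap C H₁ c from (hψθ _).trans (θ₁.commutes c)] at h1
    exact IsUnit.of_map (algebraMap C H₁) c h1⟩
  obtain ⟨σ, hσ, -⟩ := hH.universal C₁h j inferInstance
  have hψσ : ψ.comp σ = algebraMap H H₁ := (hH.universal H₁ (algebraMap C H₁) inferInstance).unique (by
    rw [RingHom.comp_assoc, hσ]
    exact RingHom.ext fun c => (hψθ _).trans (θ₁.commutes c)) (IsScalarTower.algebraMap_eq C H H₁).symm
  have hψs : Function.Surjective ψ := by
    intro z
    have hz : z ∈ Submodule.span H (Set.range b) := by rw [hb]; trivial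
    obtain ⟨c, rfl⟩ := (Submodule.mem_span_range_iff_exists_fun H).1 hz
    refine ⟨∑ i, σ (c i) * algebraMap C₁ C₁h (algebraMap S₁ C₁ (MvPolynomial.X i)), ?_⟩
    rw [map_sum]
    refine Finset.sum_congr rfl fun i _ => ?_
    rw [map_mul, hψθ, hθ₁, ← RingHom.comp_apply ψ σ, hψσ, Algebra.smul_def]
    congr 1
    exact MvPolynomial.aeval_X b i
  haveI : IsNoetherianRing C₁h := (Groth.Agent.Hensel.henselization_isNoetherianRing_iff C₁ C₁h).1 inferInstance
  obtain ⟨s, hs⟩ := IsNoetherian.noetherian (RingHom.ker ψ)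
  -- an étale neighbourhood carrying generators of the kernel
  obtain ⟨sys⟩ := Groth.Agent.IndEtLib.exists_system (Groth.Agent.S12236.result C₁ C₁h)
  obtain ⟨St, -, hSt⟩ := sys.surj s
  let q := (maximalIdeal C₁h).comap St.φ.toRingHom
  haveI : q.IsPrime := Ideal.IsPrime.comap _
  let M := Localization.AtPrime q
  have hunitq : ∀ y : q.primeCompl, IsUnit (St.φ y) := fun y => notMem_maximalIdeal.1 y.2
  let φM : M →+* C₁h := IsLocalization.lift (M := q.primeCompl) (g := St.φ.toRingHom) hunitq
  have hφM : ∀ x, φM (algebraMap St.E M x) = St.φ x := fun x => IsLocalization.lift_eq _ x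
  letI : Algebra M C₁h := φM.toAlgebra
  haveI : IsLocalHom (algebraMap M C₁h) := isLocalHom_of_comap St.φ.toRingHom q rfl φM hφM
  have hMh : _root_.Hensel.IsHenselization M C₁h := isHenselization_nbhd hC₁h St.φ q rfl hφM
  letI : Algebra A St.E := ((algebraMap C₁ St.E).comp (algebraMap A C₁)).toAlgebra
  haveI : IsScalarTower A C₁ St.E := IsScalarTower.of_algebraMap_eq' rfl
  haveI : Algebra.EssFiniteType A St.E := Algebra.EssFiniteType.comp A C₁ St.E
  haveI : Algebra.EssFiniteType St.E M := Algebra.EssFiniteType.of_isLocalization _ q.primeCompl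
  haveI : Algebra.EssFiniteType A M := Algebra.EssFiniteType.comp A St.E M
  haveI : IsNoetherianRing M := Algebra.EssFiniteType.isNoetherianRing A M
  -- the quotient
  let K : Ideal M := RingHom.ker (ψ.comp (algebraMap M C₁h))
  have hK : K ≠ ⊤ := RingHom.ker_ne_top _
  haveI : Nontrivial (M ⧸ K) := Ideal.Quotient.nontrivial_iff.2 hK
  haveI : IsLocalRing (M ⧸ K) := IsLocalRing.of_surjective' _ Ideal.Quotient.mk_surjective
  letI : Algebra (M ⧸ K) H₁ := (RingHom.kerLift (ψ.comp (algebraMap M C₁h))).toAlgebra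
  have hQ : ∀ x, algebraMap (M ⧸ K) H₁ (Ideal.Quotient.mk K x) = ψ (algebraMap M C₁h x) := fun x => rfl
  haveI : IsLocalHom ψ := .of_surjective _ hψs
  haveI : IsLocalHom (algebraMap (M ⧸ K) H₁) := ⟨fun y hy => by
    obtain ⟨x, rfl⟩ := Ideal.Quotient.mk_surjective y
    rw [hQ] at hy
    exact (IsUnit.of_map (algebraMap M C₁h) x (IsUnit.of_map ψ _ hy)).map _⟩
  have hker : RingHom.ker ψ ≤ (RingHom.ker (Ideal.Quotient.mk K)).map (algebraMap M C₁h) := by
    rw [Ideal.mk_ker, ← hs, Submodule.span_le]
    intro z hz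
    obtain ⟨w, hw⟩ := hSt z hz
    have hz' : algebraMap M C₁h (algebraMap St.E M w) = z := (hφM w).trans hw
    rw [SetLike.mem_coe, ← hz']
    refine Ideal.mem_map_of_mem _ ?_
    show ψ (algebraMap M C₁h (algebraMap St.E M w)) = 0
    rw [hz']
    exact (hs ▸ Submodule.subset_span hz : z ∈ RingHom.ker ψ)
  haveI : Algebra.EssFiniteType A (M ⧸ K) :=
    Algebra.EssFiniteType.of_surjective (Ideal.Quotient.mkₐ A K) Ideal.Quotient.mk_surjective
  haveI : IsScalarTower A (M ⧸ K) H₁ := IsScalarTower.of_algebraMap_eq fun a => by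
    show _ = algebraMap (M ⧸ K) H₁ (Ideal.Quotient.mk K (algebraMap A M a))
    rw [hQ, IsScalarTower.algebraMap_apply A St.E M, show algebraMap M C₁h (algebraMap St.E M
      (algebraMap A St.E a)) = St.φ (algebraMap C₁ St.E (algebraMap A C₁ a)) from hφM _,
      AlgHom.commutes, hψθ, IsScalarTower.algebraMap_apply A C C₁, AlgHom.commutes,
      ← IsScalarTower.algebraMap_apply]
  exact isEFTHens_of_essFiniteType (M ⧸ K)
    (isHenselization_quotient hMh (Ideal.Quotient.mk K) Ideal.Quotient.mk_surjective ψ hψs (fun x => (hQ x).symm) hker)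

/-- A finite injective extension which is a henselization of an essentially finite type local ring forces
the small ring to be one. -/
theorem transfer_down {A : Type u} [CommRing A] [IsNoetherianRing A] {C₁ H H₁ : Type u} [CommRing C₁] [IsLocalRing C₁]
    [Algebra A C₁] [Algebra.EssFiniteType A C₁] [CommRing H] [HenselianLocalRing H] [Algebra A H]
    [CommRing H₁] [HenselianLocalRing H₁] [Algebra A H₁] [Algebra H H₁] [IsScalarTower A H H₁]
    [IsLocalHom (algebraMap H H₁)] [Module.Finite H H₁] (hinj : Function.Injective (algebraMap H H₁))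
    [Algebra C₁ H₁] [IsScalarTower A C₁ H₁] [IsLocalHom (algebraMap C₁ H₁)]
    (hC₁ : _root_.Hensel.IsHenselization C₁ H₁) : IsEFTHens A H := by
  classical
  let Gs := Algebra.EssFiniteType.finset A C₁
  have hint : ∀ c : C₁, IsIntegral H (algebraMap C₁ H₁ c) := fun c => Algebra.IsIntegral.isIntegral _
  choose P hPm hP0 using hint
  let G : Finset H := Gs.biUnion fun c => (P c).coeffs
  let B : Subalgebra A H := Algebra.adjoin A (G : Set H)
  haveI : Algebra.FiniteType A B :=
    ⟨(Subalgebra.fg_top _).2 (Subalgebra.fg_adjoin_finset G)⟩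
  let p : Ideal B := (maximalIdeal H).comap (algebraMap B H)
  haveI : p.IsPrime := Ideal.IsPrime.comap _
  let C := Localization.AtPrime p
  have hunit : ∀ y : p.primeCompl, IsUnit (algebraMap B H y) := fun y => notMem_maximalIdeal.1 y.2
  let φC : C →ₐ[A] H := IsLocalization.liftAlgHom (M := p.primeCompl) (f := IsScalarTower.toAlgHom A B H) hunit
  have hφC : ∀ x, φC (algebraMap B C x) = algebraMap B H x := fun x => IsLocalization.lift_eq _ x
  haveI : IsLocalHom φC.toRingHom := isLocalHom_of_comap (algebraMap B H) p rfl φC.toRingHom hφC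
  haveI : Algebra.EssFiniteType B C := Algebra.EssFiniteType.of_isLocalization _ p.primeCompl
  haveI : Algebra.EssFiniteType A C := Algebra.EssFiniteType.comp A B C
  obtain ⟨Ch, _, _, _, hloc, hCh⟩ := exists_hens C
  haveI := hloc
  haveI : HenselianLocalRing Ch := hCh.henselian
  obtain ⟨τ, hτ, -⟩ := hCh.universal H φC.toRingHom inferInstance
  have hτC : ∀ x, τ (algebraMap C Ch x) = φC x := fun x => RingHom.congr_fun hτ x
  haveI : IsLocalHom τ := isLocalHom_of_henselization hCh τ φC.toRingHom hτ
  letI : Algebra Ch H := τ.toAlgebra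
  letI : Algebra Ch H₁ := ((algebraMap H H₁).comp τ).toAlgebra
  haveI : IsScalarTower Ch H H₁ := IsScalarTower.of_algebraMap_eq' rfl
  haveI : IsLocalHom (algebraMap Ch H₁) := by
    show IsLocalHom ((algebraMap H H₁).comp τ); infer_instance
  -- finite piece
  let T : Subalgebra Ch H₁ := Algebra.adjoin Ch ((fun c => algebraMap C₁ H₁ c) '' (Gs : Set C₁))
  haveI : Module.Finite Ch T := by
    refine ⟨(Submodule.fg_top _).2 (fg_adjoin_of_finite (Gs.finite_toSet.image _) ?_)⟩
    rintro _ ⟨c, hc, rfl⟩
    have hlift : P c ∈ Polynomial.lifts τ := by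
      rw [Polynomial.lifts_iff_coeff_lifts]
      intro i
      by_cases h0 : (P c).coeff i = 0
      · exact ⟨0, by rw [h0, map_zero]⟩
      have hmem : (P c).coeff i ∈ B :=
        Algebra.subset_adjoin (Finset.mem_biUnion.2 ⟨c, hc, Polynomial.coeff_mem_coeffs h0⟩)
      exact ⟨algebraMap C Ch (algebraMap B C ⟨_, hmem⟩), by rw [hτC, hφC]; rfl⟩
    obtain ⟨Q, hQ, -, hQm⟩ := Polynomial.lifts_and_degree_eq_and_monic hlift (hPm c)
    refine ⟨Q, hQm, ?_⟩
    show Polynomial.eval₂ ((algebraMap H H₁).comp τ) _ Q = 0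
    rw [← Polynomial.eval₂_map, hQ]
    exact hP0 c
  let qT : Ideal T := (maximalIdeal H₁).comap T.val.toRingHom
  haveI : qT.IsPrime := Ideal.IsPrime.comap _
  haveI : qT.LiesOver (maximalIdeal Ch) := ⟨by
    rw [Ideal.under, Ideal.comap_comap, show T.val.toRingHom.comp (algebraMap Ch T) = algebraMap Ch H₁ from
      RingHom.ext T.val.commutes]
    have h04 := (local_hom_TFAE (algebraMap Ch H₁)).out 0 4
    exact (h04.1 ‹IsLocalHom (algebraMap Ch H₁)›).symm⟩
  let Tq := Localization.AtPrime qT
  haveI : Module.Finite Ch Tq := Groth.Agent.Hensel.finite_atPrime Ch T qT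
  haveI : HenselianLocalRing Tq := Groth.Agent.Hensel.henselianLocalRing_finite Ch Tq
  have hunitT : ∀ y : qT.primeCompl, IsUnit (T.val y) := fun y => notMem_maximalIdeal.1 y.2
  let ν : Tq →ₐ[Ch] H₁ := IsLocalization.liftAlgHom (M := qT.primeCompl) (f := T.val) hunitT
  have hν : ∀ x, ν (algebraMap T Tq x) = T.val x := fun x => IsLocalization.lift_eq _ x
  haveI : IsLocalHom ν.toRingHom := isLocalHom_of_comap T.val.toRingHom qT rfl ν.toRingHom hν
  -- `C₁` maps to the finite piece
  let B₁ := Algebra.EssFiniteType.subalgebra A C₁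
  letI : Algebra A Ch := ((algebraMap C Ch).comp (algebraMap A C)).toAlgebra
  haveI : IsScalarTower A Ch H := IsScalarTower.of_algebraMap_eq fun a => by
    show _ = τ (algebraMap C Ch (algebraMap A C a))
    rw [hτC, AlgHom.commutes]
  haveI : IsScalarTower A Ch H₁ := IsScalarTower.of_algebraMap_eq fun a => by
    show _ = algebraMap H H₁ (algebraMap Ch H (algebraMap A Ch a))
    rw [← IsScalarTower.algebraMap_apply A Ch H, ← IsScalarTower.algebraMap_apply A H H₁]
  have hB₁ : ∀ x : B₁, algebraMap C₁ H₁ x ∈ T := by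
    have h : B₁ ≤ (T.restrictScalars A).comap (IsScalarTower.toAlgHom A C₁ H₁) :=
      Algebra.adjoin_le fun c hc => Algebra.subset_adjoin ⟨c, hc, rfl⟩
    exact fun x => h x.2
  let ρ : B₁ →+* Tq := (algebraMap T Tq).comp (((algebraMap C₁ H₁).comp (algebraMap B₁ C₁)).codRestrict T hB₁)
  have hρ : ∀ t : Algebra.EssFiniteType.submonoid A C₁, IsUnit (ρ t) := fun t => by
    refine IsLocalization.map_units Tq (⟨_, ?_⟩ : qT.primeCompl)
    intro h
    exact h ((IsLocalization.map_units C₁ t).map (algebraMap C₁ H₁))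
  let χ : C₁ →+* Tq := IsLocalization.lift (M := Algebra.EssFiniteType.submonoid A C₁) (g := ρ) hρ
  have hνχ : ν.toRingHom.comp χ = algebraMap C₁ H₁ :=
    IsLocalization.ringHom_ext (Algebra.EssFiniteType.submonoid A C₁) (RingHom.ext fun x => by
      show ν (χ (algebraMap B₁ C₁ x)) = algebraMap C₁ H₁ (algebraMap B₁ C₁ x)
      rw [show χ (algebraMap B₁ C₁ x) = ρ x from IsLocalization.lift_eq _ x]
      exact hν _)
  haveI : IsLocalHom χ := ⟨fun x hx => IsUnit.of_map (algebraMap C₁ H₁) x (by
    rw [← hνχ]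
    exact hx.map ν.toRingHom)⟩
  obtain ⟨g, hg, -⟩ := hC₁.universal Tq χ inferInstance
  have hνg : ν.toRingHom.comp g = RingHom.id H₁ := (hC₁.universal H₁ (algebraMap C₁ H₁) inferInstance).unique
    (by rw [RingHom.comp_assoc, hg, hνχ]) (RingHom.id_comp _)
  haveI : Module.Finite Ch H₁ := Module.Finite.of_surjective ν.toLinearMap fun z =>
    ⟨g z, RingHom.congr_fun hνg z⟩
  haveI : IsNoetherianRing C := Algebra.EssFiniteType.isNoetherianRing A C
  haveI : IsNoetherianRing Ch := (Groth.Agent.Hensel.henselization_isNoetherianRing_iff C Ch).1 inferInstance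
  haveI : Module.Finite Ch H := Module.Finite.of_injective
    (IsScalarTower.toAlgHom Ch H H₁).toLinearMap hinj
  letI : Algebra C H := φC.toRingHom.toAlgebra
  haveI : IsScalarTower A C H := IsScalarTower.of_algebraMap_eq fun a => (φC.commutes a).symm
  haveI : IsScalarTower C Ch H := IsScalarTower.of_algebraMap_eq fun x => (hτC x).symm
  haveI : IsLocalHom (algebraMap Ch H) := ‹IsLocalHom τ›
  exact transfer (C := C) (H := Ch) hCh

end Groth.Agent.HensTransfer
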